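import Groth.Agent.Lib.Regular.PD
import Groth.Agent.Lib.FlatCx.Ker
import Groth.Agent.Lib.Tor.FlatOfTorsion
import Groth.Prelude.Def_DRing2
import Mathlib.RingTheory.Flat.Equalizer
import Mathlib.RingTheory.IsTensorProduct

/-!
# Tor dimension, projective dimension and base change of projective resolutions
-/

set_option linter.style.haveILetI false

universe u

open CategoryTheory CategoryTheory.Limits TensorProduct
open Groth.Agent.Lib.Regular.PD Groth.Agent.Lib.Tor

namespace Groth.Agent.H25.DiagTor

variable {E : Type u} [CommRing E]

/-- `Tor_{i+1}(M, N) = 0` for all `N` and all `i ≥ n`. -/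
def TorLE (E : Type u) [CommRing E] (M : Type u) [AddCommGroup M] [Module E M] (n : ℕ) : Prop :=
  ∀ (N : ModuleCat.{u} E) (i : ℕ), n ≤ i →
    IsZero (((CategoryTheory.Tor (ModuleCat.{u} E) (i + 1)).obj (ModuleCat.of E M)).obj N)

theorem torLE_of_hasTorDimLE {M : Type u} [AddCommGroup M] [Module E M] {n : ℕ}
    (h : DRing.HasTorDimLE E n M) : TorLE E M n := fun N i hi => by
  haveI : Subsingleton (DRing.Tor E (i + 1) M N) := h N (i + 1) (by omega)
  exact ModuleCat.isZero_of_subsingleton _

theorem isZero_tor_of_Z {M : ModuleCat.{u} E} (Q : ProjectiveResolution M) (N : ModuleCat.{u} E) (i : ℕ)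
    (h : FlatOfTorsion.Z Q.complex i N) :
    IsZero (((CategoryTheory.Tor (ModuleCat.{u} E) (i + 1)).obj M).obj N) := by
  refine IsZero.of_iso ?_ (Balance.torObjIso Q N (i + 1))
  rw [← HomologicalComplex.exactAt_iff_isZero_homology,
    HomologicalComplex.exactAt_iff' _ (i + 2) (i + 1) i (by simp) (by simp),
    ShortComplex.moduleCat_exact_iff_ker_sub_range]
  exact fun z hz => h z hz

/-- Dimension shift in the first variable. -/
theorem torLE_ker {M F : Type u} [AddCommGroup M] [Module E M] [AddCommGroup F] [Module E F]
    [Module.Flat E F] {f : F →ₗ[E] M} (hf : Function.Surjective f) {n : ℕ}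
    (h : TorLE E M (n + 1)) : TorLE E (LinearMap.ker f) n := by
  intro N i hi
  refine IsZero.of_iso ?_ (Balance.torFlipIso _ N (i + 1))
  let Q := projectiveResolution N
  refine isZero_tor_of_Z Q _ i (FlatOfTorsion.Z.left (N₂ := F) (N₃ := M)
    (fun j => Balance.flat_of_projective _) (LinearMap.ker f).subtype f (Submodule.injective_subtype _)
    (LinearMap.exact_subtype_ker_map f) hf ?_ ?_)
  · exact FlatOfTorsion.z_of_isZero_tor N Q i (ModuleCat.of E F)
      (Balance.isZero_tor_succ_of_flat_right N _ i)
  · exact FlatOfTorsion.z_of_isZero_tor N Q (i + 1) (ModuleCat.of E M)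
      ((h N (i + 1) (by omega)).of_iso (Balance.torFlipIso N _ (i + 2)))

theorem pdle_of_torLE [IsNoetherianRing E] : ∀ (n : ℕ) (M : Type u) [AddCommGroup M] [Module E M]
    [Module.Finite E M], TorLE E M n → PDle E M n := by
  intro n
  induction n with
  | zero =>
    intro M _ _ _ h
    rw [pdle_zero_iff]
    let Q := projectiveResolution (ModuleCat.of E M)
    haveI : Module.Flat E M := FlatOfTorsion.flat_of_Z (ModuleCat.of E M) Q fun J =>
      FlatOfTorsion.z_of_isZero_tor _ Q 0 (ModuleCat.of E (E ⧸ J)) (h _ 0 le_rfl)
    haveI : Module.FinitePresentation E M := Module.finitePresentation_of_finite E M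
    exact Module.Flat.projective_of_finitePresentation
  | succ n ih =>
    intro M _ _ _ h
    obtain ⟨k, f, hf⟩ := exists_free_cover (R := E) M
    exact (pdle_succ_iff hf n).mpr (ih _ (torLE_ker hf h))

/-- Base change along a pushout square of a module flat over the small ring preserves projective
dimension. -/
theorem pdle_pushout [IsNoetherianRing E] (B T C : Type u) [CommRing B] [CommRing T] [CommRing C]
    [Algebra B E] [Algebra B T] [Algebra T C] [Algebra E C] [Algebra B C] [IsScalarTower B E C]
    [IsScalarTower B T C] [Algebra.IsPushout B T E C] [Module.Flat B E] :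
    ∀ (n : ℕ) (M : Type u) [AddCommGroup M] [Module E M] [Module B M] [IsScalarTower B E M]
      [Module.Finite E M] [Module.Flat B M], PDle E M n → PDle C (C ⊗[E] M) n := by
  intro n
  induction n with
  | zero =>
    intro M _ _ _ _ _ _ h
    rw [pdle_zero_iff] at h ⊢
    infer_instance
  | succ n ih =>
    intro M _ _ _ _ _ _ h
    obtain ⟨k, f, hf⟩ := exists_free_cover (R := E) M
    have hex : Function.Exact ((LinearMap.ker f).subtype.restrictScalars B) (f.restrictScalars B) :=
      LinearMap.exact_subtype_ker_map f
    haveI : Module.Flat B (Fin k → E) :=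
      Module.Flat.of_linearEquiv ((Finsupp.linearEquivFunOnFinite B E (Fin k)).symm.trans (finsuppLEquivDirectSum B E (Fin k)))
    haveI : Module.Flat B (LinearMap.ker f) :=
      Lib.FlatCx.Ker.flat_of_exact ((LinearMap.ker f).subtype.restrictScalars B) (f.restrictScalars B)
        (Submodule.injective_subtype _) hf hex
    have h1 := ih _ ((pdle_succ_iff hf n).mp h)
    have hfC : Function.Surjective (f.baseChange C) := LinearMap.lTensor_surjective C hf
    refine (pdle_succ_iff hfC n).mpr ?_
    -- injectivity after base change
    have hT : Function.Injective (((LinearMap.ker f).subtype.restrictScalars B).lTensor T) :=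
      LinearMap.lTensor_injective_of_exact_of_flat (f.restrictScalars B) hf
        ((LinearMap.ker f).subtype.restrictScalars B) (Submodule.injective_subtype _) hex T
    have hinj : Function.Injective ((LinearMap.ker f).subtype.baseChange C) := by
      rw [injective_iff_map_eq_zero]
      intro x hx
      obtain ⟨y, rfl⟩ := (Algebra.IsPushout.cancelBaseChange B T E C (LinearMap.ker f)).symm.surjective x
      have key : ∀ y, (LinearMap.ker f).subtype.baseChange C
          ((Algebra.IsPushout.cancelBaseChange B T E C (LinearMap.ker f)).symm y) =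
          (Algebra.IsPushout.cancelBaseChange B T E C (Fin k → E)).symm
            (((LinearMap.ker f).subtype.restrictScalars B).lTensor T y) := by
        intro y
        induction y using TensorProduct.induction_on with
        | zero => simp
        | add a b ha hb => simp only [map_add, ha, hb]
        | tmul t m => simp [Algebra.IsPushout.cancelBaseChange_symm_tmul]
      rw [key, LinearEquiv.map_eq_zero_iff] at hx
      rw [hT (hx.trans (map_zero _).symm), map_zero]
    have hexC : Function.Exact ((LinearMap.ker f).subtype.baseChange C) (f.baseChange C) :=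
      lTensor_exact C (LinearMap.exact_subtype_ker_map f) hf
    let e : C ⊗[E] LinearMap.ker f ≃ₗ[C] LinearMap.ker (f.baseChange C) :=
      (LinearEquiv.ofInjective _ hinj).trans (LinearEquiv.ofEq _ _ hexC.linearMap_ker_eq.symm)
    exact pdle_of_equiv e h1

end Groth.Agent.H25.DiagTor
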