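import Groth.Agent.H25.DiagTor.PD
import Groth.Agent.Lib.Regular.Serre
import Groth.Agent.Lib.Regular.Descent
import Mathlib.RingTheory.TensorProduct.Maps
import Mathlib.RingTheory.EssentialFiniteness
import Mathlib.RingTheory.Flat.Stability
import Mathlib.RingTheory.LocalRing.ResidueField.Ideal

/-!
# A perfect diagonal forces geometrically regular fibres
-/

set_option linter.style.haveILetI false

universe u

open TensorProduct
open Groth.Agent.Lib.Regular Groth.Agent.Lib.Regular.PD

namespace Groth.Agent.H25.DiagTor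

variable {A B : Type u} [CommRing A] [CommRing B] [Algebra A B] [Module.Flat A B]
  [IsNoetherianRing (B ⊗[A] B)] [Algebra (B ⊗[A] B) B]

set_option maxHeartbeats 800000 in
set_option synthInstance.maxHeartbeats 200000 in
theorem regular_point (hmul : ∀ x y : B, algebraMap (B ⊗[A] B) B (x ⊗ₜ[A] y) = x * y) (n : ℕ)
    (h : DRing.HasTorDimLE (B ⊗[A] B) n B)
    (κ : Type u) [Field κ] [Algebra A κ] [Algebra B κ] [IsScalarTower A B κ]
    [IsNoetherianRing (κ ⊗[A] B)] (P : Ideal (κ ⊗[A] B)) [P.IsPrime]
    (hP : P = RingHom.ker (Algebra.TensorProduct.lift (Algebra.ofId κ κ) (IsScalarTower.toAlgHom A B κ)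
      (fun _ _ => Commute.all _ _))) :
    IsRegularLocalRing (Localization.AtPrime P) := by
  let E := B ⊗[A] B
  let C := κ ⊗[A] B
  let μ : C →ₐ[κ] κ := Algebra.TensorProduct.lift (Algebra.ofId κ κ) (IsScalarTower.toAlgHom A B κ)
    (fun _ _ => Commute.all _ _)
  have hμ : ∀ t y, μ (t ⊗ₜ y) = t * algebraMap B κ y := fun t y => rfl
  let φ : E →ₐ[A] C := Algebra.TensorProduct.map (IsScalarTower.toAlgHom A B κ) (AlgHom.id A B)
  letI : Algebra E C := φ.toRingHom.toAlgebra
  haveI hBEC : IsScalarTower B E C := IsScalarTower.of_algebraMap_eq fun b => by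
    change algebraMap B κ b ⊗ₜ[A] (1 : B) = φ (b ⊗ₜ 1)
    rfl
  haveI hBEB : IsScalarTower B E B := IsScalarTower.of_algebraMap_eq fun b => by
    change b = algebraMap E B (b ⊗ₜ 1)
    rw [hmul, mul_one]
  haveI : Algebra.IsPushout B κ E C :=
    Algebra.IsPushout.tensorProduct_tensorProduct A B B κ (RingHom.ext fun y => by
      change algebraMap B κ 1 ⊗ₜ[A] y = (1 : κ) ⊗ₜ y
      rw [map_one])
  haveI : Module.Finite E B := Module.Finite.of_surjective (Algebra.linearMap E B) fun b =>
    ⟨b ⊗ₜ 1, by rw [Algebra.linearMap_apply, hmul, mul_one]⟩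
  have hpd := pdle_pushout (E := E) B κ C n B (pdle_of_torLE n B (torLE_of_hasTorDimLE h))
  -- identify the base changed module with the residue field
  have hPμ : ∀ c : C, c ∈ P ↔ μ c = 0 := fun c => by rw [hP]; exact RingHom.mem_ker
  have hφμ : ∀ e : E, μ (φ e) = algebraMap B κ (algebraMap E B e) := by
    intro e
    induction e using TensorProduct.induction_on with
    | zero => simp
    | tmul x y =>
      rw [hmul, map_mul]
      exact hμ _ _
    | add a b ha hb => simp only [map_add, ha, hb]
  let ℓ : B →ₗ[E] C ⧸ P :=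
    { toFun := fun b => Ideal.Quotient.mk P (algebraMap B κ b ⊗ₜ[A] (1 : B))
      map_add' := fun a b => by rw [map_add, TensorProduct.add_tmul, map_add]
      map_smul' := fun e b => by
        rw [RingHom.id_apply]
        show Ideal.Quotient.mk P _ = Ideal.Quotient.mk P (φ e * _)
        rw [Ideal.Quotient.mk_eq_mk_iff_sub_mem, hPμ, map_sub, map_mul, hφμ, hμ, hμ,
          Algebra.smul_def, map_mul, map_one, mul_one, mul_one, sub_self] }
  let θ : C ⧸ P ≃+* κ :=
    (Ideal.quotEquivOfEq hP).trans (RingHom.quotientKerEquivOfSurjective (f := μ.toRingHom)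
      fun z => ⟨z ⊗ₜ 1, (hμ z 1).trans (by rw [map_one, mul_one])⟩)
  have hθ : ∀ c, θ (Ideal.Quotient.mk P c) = μ c := fun c => rfl
  let ψ : C ⊗[E] B →ₗ[C] C ⧸ P := LinearMap.liftBaseChange C ℓ
  have h1 : ∀ y, θ (ψ ((Algebra.IsPushout.cancelBaseChange B κ E C B).symm y)) = TensorProduct.rid B κ y := by
    intro y
    induction y using TensorProduct.induction_on with
    | zero => simp
    | tmul t b =>
      rw [Algebra.IsPushout.cancelBaseChange_symm_tmul, LinearMap.liftBaseChange_tmul]
      show θ (Ideal.Quotient.mk P ((t ⊗ₜ[A] (1 : B)) * _)) = _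
      rw [hθ, map_mul, hμ, hμ, map_one, mul_one, mul_one, TensorProduct.rid_tmul, Algebra.smul_def,
        mul_comm]
    | add a b ha hb => simp only [map_add, ha, hb]
  have hbij : Function.Bijective ψ := by
    refine ⟨fun x x' hx => ?_, fun z => ?_⟩
    · obtain ⟨y, rfl⟩ := (Algebra.IsPushout.cancelBaseChange B κ E C B).symm.surjective x
      obtain ⟨y', rfl⟩ := (Algebra.IsPushout.cancelBaseChange B κ E C B).symm.surjective x'
      have h2 := congrArg θ hx
      rw [h1, h1] at h2
      rw [(TensorProduct.rid B κ).injective h2]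
    · exact ⟨_, θ.injective ((h1 ((TensorProduct.rid B κ).symm (θ z))).trans
        (LinearEquiv.apply_symm_apply _ _))⟩
  have hres : PDle C (C ⧸ P) n := pdle_of_equiv (LinearEquiv.ofBijective ψ hbij) hpd
  set R := Localization.AtPrime P
  have hm : P.localized' R P.primeCompl (Algebra.linearMap C R) = IsLocalRing.maximalIdeal R := by
    rw [Ideal.localized'_eq_map, Localization.AtPrime.map_eq_maximalIdeal]
  exact Serre.of_pdle_residue n (pdle_of_equiv (Submodule.quotEquivOfEq _ _ hm)
    (pdle_localization P.primeCompl R _ (P.toLocalizedQuotient' R P.primeCompl (Algebra.linearMap C R)) hres))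

set_option maxHeartbeats 800000 in
set_option synthInstance.maxHeartbeats 200000 in
theorem regular_descend [Algebra.EssFiniteType A B]
    (hmul : ∀ x y : B, algebraMap (B ⊗[A] B) B (x ⊗ₜ[A] y) = x * y) (n : ℕ)
    (hn : DRing.HasTorDimLE (B ⊗[A] B) n B) (K : Type u) [Field K] [Algebra A K]
    (κ : Type u) [Field κ] [Algebra A κ] [Algebra B κ] [IsScalarTower A B κ] [Algebra K κ]
    [IsScalarTower A K κ] (Q : Ideal (K ⊗[A] B)) [Q.IsPrime] (g : K ⊗[A] B →+* κ)
    (hg : ∀ t y, g (t ⊗ₜ y) = algebraMap K κ t * algebraMap B κ y) (hQ : Q = RingHom.ker g) :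
    IsRegularLocalRing (Localization.AtPrime Q) := by
  let D := K ⊗[A] B
  let C := κ ⊗[A] B
  haveI : IsNoetherianRing D := Algebra.EssFiniteType.isNoetherianRing K D
  haveI : IsNoetherianRing C := Algebra.EssFiniteType.isNoetherianRing κ C
  let μ : C →ₐ[κ] κ := Algebra.TensorProduct.lift (Algebra.ofId κ κ) (IsScalarTower.toAlgHom A B κ)
    (fun _ _ => Commute.all _ _)
  let P : Ideal C := RingHom.ker μ
  haveI : P.IsPrime := RingHom.ker_isPrime _
  haveI := regular_point hmul n hn κ P rfl
  let f : D →ₐ[A] C := Algebra.TensorProduct.map (IsScalarTower.toAlgHom A K κ) (AlgHom.id A B)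
  letI : Algebra D C := f.toRingHom.toAlgebra
  haveI : IsScalarTower K D C := IsScalarTower.of_algebraMap_eq fun t => by
    change algebraMap K κ t ⊗ₜ[A] (1 : B) = f (t ⊗ₜ 1)
    rfl
  haveI : Algebra.IsPushout K κ D C :=
    Algebra.IsPushout.tensorProduct_tensorProduct A B K κ (RingHom.ext fun y => by
      change algebraMap K κ 1 ⊗ₜ[A] y = (1 : κ) ⊗ₜ y
      rw [map_one])
  haveI : Module.Flat D C :=
    Module.Flat.isBaseChange K D κ C (Algebra.IsPushout.symm ‹Algebra.IsPushout K κ D C›).out
  haveI : P.LiesOver Q := ⟨by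
    ext x
    have key : ∀ x : D, μ (f x) = g x := by
      intro x
      induction x using TensorProduct.induction_on with
      | zero => simp
      | tmul t y =>
        rw [hg]
        rfl
      | add a b ha hb => simp only [map_add, ha, hb]
    rw [Ideal.under_def, Ideal.mem_comap, RingHom.mem_ker, hQ, RingHom.mem_ker]
    change g x = 0 ↔ μ (f x) = 0
    rw [key]⟩
  letI := Localization.AtPrime.algebraOfLiesOver Q P
  exact Descent.isRegularLocalRing_of_flat (Localization.AtPrime P)

set_option maxHeartbeats 800000 in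
set_option synthInstance.maxHeartbeats 200000 in
/-- If the diagonal has finite Tor dimension, all base changes to fields are regular. -/
theorem regular_fibre [Algebra.EssFiniteType A B]
    (hmul : ∀ x y : B, algebraMap (B ⊗[A] B) B (x ⊗ₜ[A] y) = x * y)
    (h : DRing.HasFiniteTorDim (B ⊗[A] B) B) (K : Type u) [Field K] [Algebra A K]
    (Q : Ideal (K ⊗[A] B)) [Q.IsPrime] : IsRegularLocalRing (Localization.AtPrime Q) := by
  obtain ⟨n, hn⟩ := h
  let κ := Q.ResidueField
  letI : Algebra B κ := ((algebraMap (K ⊗[A] B) κ).comp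
    Algebra.TensorProduct.includeRight.toRingHom).toAlgebra
  haveI : IsScalarTower A B κ := IsScalarTower.of_algebraMap_eq fun a => by
    change algebraMap A κ a = algebraMap (K ⊗[A] B) κ (Algebra.TensorProduct.includeRight (algebraMap A B a))
    rw [AlgHom.commutes, ← IsScalarTower.algebraMap_apply]
  haveI : IsScalarTower A K κ := IsScalarTower.of_algebraMap_eq fun a => by
    rw [IsScalarTower.algebraMap_apply K (K ⊗[A] B) κ, ← IsScalarTower.algebraMap_apply A K (K ⊗[A] B),
      ← IsScalarTower.algebraMap_apply]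
  refine regular_descend hmul n hn K κ Q (algebraMap (K ⊗[A] B) κ) (fun t y => ?_)
    (Ideal.ker_algebraMap_residueField Q).symm
  rw [IsScalarTower.algebraMap_apply K (K ⊗[A] B) κ]
  change _ = algebraMap (K ⊗[A] B) κ _ * algebraMap (K ⊗[A] B) κ ((1 : K) ⊗ₜ y)
  rw [← map_mul]
  simp [Algebra.TensorProduct.algebraMap_apply]

end Groth.Agent.H25.DiagTor
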